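import Groth.Prelude.Def_ChGrp
import Mathlib.AlgebraicGeometry.Sites.Fpqc

/-!
# Closed stable subschemes of a balanced product
-/

universe u

set_option autoImplicit false
set_option backward.isDefEq.respectTransparency false
set_option backward.isDefEq.respectTransparency.types false
set_option linter.style.haveILetI false

open CategoryTheory CategoryTheory.Limits MonoidalCategory CartesianMonoidalCategory MonObj AlgebraicGeometry

namespace Groth.Agent.BalSub

variable {S : Scheme.{u}} {G H : Over S} [GrpObj G] [GrpObj H]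

/-- A closed stable subscheme of a balanced product is a balanced product. -/
theorem exists_isBalProd (K : Precoverage Scheme.{u}) [K.IsStableUnderBaseChange]
    {Z Y Y' : Over S} (i : H ⟶ G) [IsMonHom i] (aZ : AlgGrp.Action H Z) (aY : AlgGrp.Action G Y) (j : G ⊗ Z ⟶ Y)
    (hY : ChGrp.IsBalProd K i aZ aY j) (c : Y' ⟶ Y) [IsClosedImmersion c.left]
    (aY' : AlgGrp.Action G Y') (hc : AlgGrp.Action.IsEquivariant aY' aY c) :
    ∃ (Z' : Over S) (c' : Z' ⟶ Z) (aZ' : AlgGrp.Action H Z') (j' : G ⊗ Z' ⟶ Y'),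
      IsClosedImmersion c'.left ∧ AlgGrp.Action.IsEquivariant aZ' aZ c' ∧
      j' ≫ c = (G ◁ c') ≫ j ∧ ChGrp.IsBalProd K i aZ' aY' j' := by
  obtain ⟨heq, hpb, hloc⟩ := hY
  haveI : Mono c := (Over.forget _).mono_of_mono_map (inferInstanceAs (Mono c.left))
  let e : Z ⟶ Y := lift (toUnit Z ≫ η[G]) (𝟙 Z) ≫ j
  have hequiv : ∀ (T : Over S) (g g' : T ⟶ G) (z : T ⟶ Z),
      lift (g * g') z ≫ j = lift g (lift g' z ≫ j) ≫ aY.act := by
    intro T g g' z
    have h := congrArg (lift g (lift g' z) ≫ ·) heq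
    simp only [← Category.assoc, lift_whiskerLeft] at h
    rw [AlgGrp.Action.lift_prod_act, AlgGrp.Action.lift_trivial_act] at h
    rw [← h]
    congr 2
  have hce : ∀ (T : Over S) (g : T ⟶ G) (y : T ⟶ Y'),
      (lift g y ≫ aY'.act) ≫ c = lift g (y ≫ c) ≫ aY.act := by
    intro T g y
    rw [Category.assoc, hc, lift_whiskerLeft_assoc]
  have he : ∀ (T : Over S) (z : T ⟶ Z), z ≫ e = lift (1 : T ⟶ G) z ≫ j := by
    intro T z
    simp only [e, comp_lift_assoc, Category.comp_id]
    rw [← Category.assoc, toUnit_unique (z ≫ toUnit Z) (toUnit T), ← Hom.one_def]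
  have hej : ∀ (T : Over S) (g : T ⟶ G) (z : T ⟶ Z), lift g z ≫ j = lift g (z ≫ e) ≫ aY.act := by
    intro T g z
    rw [he, ← hequiv, _root_.mul_one]
  clear_value e
  have htwist : ∀ (T : Over S) (h : T ⟶ H) (g : T ⟶ G) (z : T ⟶ Z),
      lift (g * (h ≫ i)⁻¹) (lift h z ≫ aZ.act) ≫ j = lift g z ≫ j := by
    intro T h g z
    have h' := congrArg (lift h (lift g z) ≫ ·) hpb.w
    simp only [← Category.assoc, lift_snd] at h'
    rwa [ChGrp.lift_twist_act] at h'
  let Z' : Over S := pullback e c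
  let c' : Z' ⟶ Z := pullback.fst e c
  let d : Z' ⟶ Y' := pullback.snd e c
  have hd : ∀ (T : Over S) (z : T ⟶ Z'), (z ≫ c') ≫ e = (z ≫ d) ≫ c := by
    intro T z
    simp only [c', d, Category.assoc, pullback.condition]
  haveI hc' : IsClosedImmersion c'.left := MorphismProperty.of_isPullback
    ((IsPullback.of_hasPullback e c).map (Over.forget S)).flip (inferInstanceAs (IsClosedImmersion c.left))
  haveI : Mono c' := (Over.forget _).mono_of_mono_map (inferInstanceAs (Mono c'.left))
  -- the action on the subscheme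
  let act : H ⊗ Z' ⟶ Z' := pullback.lift ((H ◁ c') ≫ aZ.act) (lift (fst H Z' ≫ i) (snd H Z' ≫ d) ≫ aY'.act) (by
    rw [show (H ◁ c') = lift (fst H Z') (snd H Z' ≫ c') from by ext <;> simp, he,
      ← mul_inv_cancel (fst H Z' ≫ i), htwist, hej, hd, hce])
  have hact : act ≫ c' = (H ◁ c') ≫ aZ.act := pullback.lift_fst _ _ _
  let aZ' : AlgGrp.Action H Z' :=
    { act := act
      one_act := by
        rw [← cancel_mono c', Category.assoc, hact, ← whisker_exchange_assoc, aZ.one_act, leftUnitor_naturality]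
      mul_act := by
        rw [← cancel_mono c']
        simp only [Category.assoc, hact]
        rw [← whisker_exchange_assoc, aZ.mul_act, associator_naturality_right_assoc, ← whiskerLeft_comp_assoc,
          ← whiskerLeft_comp_assoc, hact] }
  let j' : G ⊗ Z' ⟶ Y' := (G ◁ d) ≫ aY'.act
  have hj' : j' ≫ c = (G ◁ c') ≫ j := by
    refine AlgGrp.Action.hom_ext_lift₂ fun T g z => ?_
    simp only [j']
    rw [← Category.assoc, ← Category.assoc, lift_whiskerLeft, hce, ← Category.assoc, lift_whiskerLeft, hej, hd]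
  have hpb' : IsPullback (G ◁ c') j' j c := by
    refine ⟨⟨hj'.symm⟩, ⟨PullbackCone.IsLimit.mk hj'.symm
      (fun s => lift (s.fst ≫ fst G Z) (pullback.lift (s.fst ≫ snd G Z)
        (lift (s.fst ≫ fst G Z)⁻¹ s.snd ≫ aY'.act) ?_)) ?_ ?_ ?_⟩⟩
    · rw [hce, ← s.condition, he, show lift (s.fst ≫ fst G Z)⁻¹ (s.fst ≫ j) ≫ aY.act =
        lift ((s.fst ≫ fst G Z)⁻¹ * (s.fst ≫ fst G Z)) (s.fst ≫ snd G Z) ≫ j by
          rw [hequiv, ← comp_lift_assoc, lift_fst_snd, Category.id_comp], inv_mul_cancel]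
    · intro s
      rw [lift_whiskerLeft, pullback.lift_fst, ← comp_lift, lift_fst_snd, Category.comp_id]
    · intro s
      simp only [j']
      rw [← Category.assoc, lift_whiskerLeft, pullback.lift_snd, ← AlgGrp.Action.lift_mul_act, mul_inv_cancel,
        AlgGrp.Action.lift_one_act]
    · intro s m hm₁ hm₂
      have h1 : m ≫ fst G Z' = s.fst ≫ fst G Z := by rw [← hm₁]; simp
      have h2 : (m ≫ snd G Z') ≫ c' = s.fst ≫ snd G Z := by rw [← hm₁]; simp
      refine CartesianMonoidalCategory.hom_ext _ _ ?_ ?_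
      · rw [lift_fst, h1]
      · rw [lift_snd, ← cancel_mono c', h2]
        exact (pullback.lift_fst _ _ _).symm
  haveI : Mono (G ◁ c') := ⟨fun a b hab => CartesianMonoidalCategory.hom_ext _ _
    (by simpa using congrArg (· ≫ fst G Z) hab)
    ((cancel_mono c').1 (by simpa using congrArg (· ≫ snd G Z) hab))⟩
  have htw : (ChGrp.twist i aZ').act ≫ (G ◁ c') = (H ◁ (G ◁ c')) ≫ (ChGrp.twist i aZ).act := by
    refine AlgGrp.Action.hom_ext_lift₂ fun T h u => ?_
    rw [show u = lift (u ≫ fst G Z') (u ≫ snd G Z') from by rw [← comp_lift, lift_fst_snd, Category.comp_id]]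
    rw [← Category.assoc, ← Category.assoc, ChGrp.lift_twist_act, lift_whiskerLeft, lift_whiskerLeft, lift_whiskerLeft,
      ChGrp.lift_twist_act, Category.assoc (lift h _), hact, lift_whiskerLeft_assoc]
  have hjd : j' = (G ◁ d) ≫ aY'.act := rfl
  clear_value j'
  refine ⟨Z', c', aZ', j', hc', hact, hj', ?_, ?_, ?_⟩
  · -- equivariance
    rw [AlgGrp.Action.IsEquivariant]
    refine AlgGrp.Action.hom_ext_lift₂ fun T g u => ?_
    rw [← cancel_mono c, show u = lift (u ≫ fst G Z') (u ≫ snd G Z') from by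
      rw [← comp_lift, lift_fst_snd, Category.comp_id]]
    rw [← Category.assoc, AlgGrp.Action.lift_prod_act, AlgGrp.Action.lift_trivial_act]
    rw [← Category.assoc (lift g _), lift_whiskerLeft, hce, Category.assoc (lift _ _) j', hj', Category.assoc _ j' c, hj',
      lift_whiskerLeft_assoc, ← Category.assoc _ (G ◁ c') j, lift_whiskerLeft, ← hequiv]
    congr 2
  · -- the torsor square
    have hjj : (ChGrp.twist i aZ').act ≫ j' = snd H (G ⊗ Z') ≫ j' := by
      rw [← cancel_mono c, Category.assoc, Category.assoc, hj', ← Category.assoc, htw, Category.assoc, hpb.w,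
        whiskerLeft_snd_assoc]
    refine ⟨⟨hjj⟩, ⟨PullbackCone.IsLimit.mk hjj
      (fun s => lift (hpb.lift (s.fst ≫ (G ◁ c')) (s.snd ≫ (G ◁ c'))
        (by rw [Category.assoc, Category.assoc, ← hj', reassoc_of% s.condition]) ≫ fst H (G ⊗ Z)) s.snd) ?_ ?_ ?_⟩⟩
    · intro s
      rw [← cancel_mono (G ◁ c'), Category.assoc, htw, ← Category.assoc, lift_whiskerLeft]
      refine Eq.trans ?_ (hpb.lift_fst (s.fst ≫ (G ◁ c')) (s.snd ≫ (G ◁ c'))
        (by rw [Category.assoc, Category.assoc, ← hj', reassoc_of% s.condition]))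
      congr 1
      exact CartesianMonoidalCategory.hom_ext _ _ (by rw [lift_fst]) (by rw [lift_snd, hpb.lift_snd])
    · intro s
      rw [lift_snd]
    · intro s m hm₁ hm₂
      refine CartesianMonoidalCategory.hom_ext _ _ ?_ (by rw [lift_snd, hm₂])
      rw [lift_fst, ← whiskerLeft_fst H (G ◁ c'), ← Category.assoc]
      congr 1
      apply hpb.hom_ext
      · rw [hpb.lift_fst, Category.assoc, ← htw, ← Category.assoc, hm₁]
      · rw [hpb.lift_snd, Category.assoc, whiskerLeft_snd, ← Category.assoc, hm₂]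
  · -- local sections
    obtain ⟨R, hR, hsec⟩ := hloc
    refine ⟨R.pullbackArrows c.left, Precoverage.pullbackArrows_mem c.left hR, ?_⟩
    rintro V v ⟨W, f, hf⟩
    obtain ⟨s, hs⟩ := hsec f hf
    let T : Over S := Over.mk (pullback.snd f c.left ≫ Y'.hom)
    let a : T ⟶ G ⊗ Z := Over.homMk (pullback.fst f c.left ≫ s) (by
      show (pullback.fst f c.left ≫ s) ≫ (G ⊗ Z).hom = pullback.snd f c.left ≫ Y'.hom
      rw [← Over.w j, ← Category.assoc, Category.assoc _ s, show s ≫ j.left = f from hs, pullback.condition,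
        Category.assoc, Over.w c])
    let b : T ⟶ Y' := Over.homMk (pullback.snd f c.left) rfl
    have hab : a ≫ j = b ≫ c := by
      ext
      show (pullback.fst f c.left ≫ s) ≫ j.left = pullback.snd f c.left ≫ c.left
      rw [Category.assoc, show s ≫ j.left = f from hs, pullback.condition]
    exact ⟨(hpb'.lift a b hab).left, congr($(hpb'.lift_snd a b hab).left)⟩

end Groth.Agent.BalSub
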